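import Mathlib.GroupTheory.Sylow
import Mathlib.GroupTheory.SpecificGroups.Dihedral
import Mathlib.Data.Fintype.Perm
import Mathlib.Tactic

/-!
The wreath product of the dihedral group of order eight by a group of order two: a concrete model,
its identification with a Sylow 2-subgroup of the symmetric group of degree eight, and the facts
about the model that are checked by evaluation.
-/

set_option autoImplicit false

namespace CfsgLib.DWrTwo

open DihedralGroup

/-- The dihedral group of order eight. -/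
abbrev D : Type := DihedralGroup 4

/-- The model: two coordinates and a switch. -/
structure W8 where
  a : D
  b : D
  m : Bool
deriving DecidableEq, Fintype

namespace W8

instance instW8Mul : Mul W8 :=
  ⟨fun x y => ⟨x.a * (cond x.m y.b y.a), x.b * (cond x.m y.a y.b), x.m ^^ y.m⟩⟩
instance instW8One : One W8 := ⟨⟨1, 1, false⟩⟩
instance instW8Inv : Inv W8 := ⟨fun x => ⟨cond x.m x.b⁻¹ x.a⁻¹, cond x.m x.a⁻¹ x.b⁻¹, x.m⟩⟩

@[ext] theorem ext' {x y : W8} (h1 : x.a = y.a) (h2 : x.b = y.b) (h3 : x.m = y.m) : x = y := by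
  cases x; cases y; simp_all

theorem mul_def (x y : W8) :
    x * y = ⟨x.a * (cond x.m y.b y.a), x.b * (cond x.m y.a y.b), x.m ^^ y.m⟩ := rfl
theorem one_def : (1 : W8) = ⟨1, 1, false⟩ := rfl
theorem inv_def (x : W8) :
    x⁻¹ = ⟨cond x.m x.b⁻¹ x.a⁻¹, cond x.m x.a⁻¹ x.b⁻¹, x.m⟩ := rfl

instance instW8Group : Group W8 where
  mul_assoc x y z := by
    obtain ⟨a, b, m⟩ := x; obtain ⟨c, d, n⟩ := y; obtain ⟨e, f, k⟩ := z
    cases m <;> cases n <;> simp [mul_def, mul_assoc]
  one_mul x := by obtain ⟨a, b, m⟩ := x; simp [mul_def, one_def]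
  mul_one x := by obtain ⟨a, b, m⟩ := x; cases m <;> simp [mul_def, one_def]
  inv_mul_cancel x := by
    obtain ⟨a, b, m⟩ := x; cases m <;> simp [mul_def, inv_def, one_def]

theorem card : Nat.card W8 = 128 := by
  rw [Nat.card_eq_fintype_card]; decide +kernel

end W8

/-- The basic reflections, the switch and the two central elements of the coordinates. -/
def F1 : W8 := ⟨sr 0, 1, false⟩
def F2 : W8 := ⟨1, sr 0, false⟩
def G1 : W8 := ⟨sr 1, 1, false⟩
def G2 : W8 := ⟨1, sr 1, false⟩
def Wm : W8 := ⟨1, 1, true⟩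
def Z1 : W8 := ⟨r 2, 1, false⟩
def Z2 : W8 := ⟨1, r 2, false⟩
def Zd : W8 := ⟨r 2, r 2, false⟩

/-- Membership in one of the two four-groups of the dihedral group. -/
def inFour (i : ZMod 4) (x : D) : Bool := x = 1 || x = r 2 || x = sr i || x = sr (i + 2)

/-- The two normal elementary abelian subgroups of order sixteen. -/
def four (i : ZMod 4) : Subgroup W8 where
  carrier := {x | x.m = false ∧ inFour i x.a = true ∧ inFour i x.b = true}
  one_mem' := by simp [W8.one_def, inFour]
  mul_mem' := by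
    rintro x y ⟨h1, h2, h3⟩ ⟨k1, k2, k3⟩
    have key : ∀ j : ZMod 4, ∀ u v : D, inFour j u = true → inFour j v = true →
        inFour j (u * v) = true := by decide +kernel
    refine ⟨by simp [W8.mul_def, h1, k1], ?_, ?_⟩
    · simpa [W8.mul_def, h1] using key i _ _ h2 k2
    · simpa [W8.mul_def, h1] using key i _ _ h3 k3
  inv_mem' := by
    rintro x ⟨h1, h2, h3⟩
    have key : ∀ j : ZMod 4, ∀ u : D, inFour j u = true → inFour j u⁻¹ = true := by
      decide +kernel
    exact ⟨by simp [W8.inv_def, h1], by simpa [W8.inv_def, h1] using key i _ h2,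
      by simpa [W8.inv_def, h1] using key i _ h3⟩

theorem mem_four {i : ZMod 4} {x : W8} :
    x ∈ four i ↔ x.m = false ∧ inFour i x.a = true ∧ inFour i x.b = true := Iff.rfl

instance decMemFour (i : ZMod 4) (x : W8) : Decidable (x ∈ four i) :=
  decidable_of_iff _ mem_four.symm

/-- Elements centralizing the three generators. -/
theorem central : ∀ x : W8, x * F1 = F1 * x → x * G1 = G1 * x → x * Wm = Wm * x →
    x = 1 ∨ x = Zd := by decide +kernel

theorem central_Zd : ∀ x : W8, Zd * x = x * Zd := by decide +kernel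

/-- An element of a normal elementary abelian subgroup lies in one of the two groups. -/
theorem candidate : ∀ x : W8, x * x = 1 →
    (∀ h : W8, x * (h * x * h⁻¹) = h * x * h⁻¹ * x) → x ∈ four 0 ∨ x ∈ four 1 := by
  decide +kernel

theorem four_normal : ∀ x : W8, x ∈ four 0 → ∀ h : W8, h * x * h⁻¹ ∈ four 0 := by decide +kernel
theorem four_normal' : ∀ x : W8, x ∈ four 1 → ∀ h : W8, h * x * h⁻¹ ∈ four 1 := by decide +kernel

theorem four_card (i : ZMod 4) : Nat.card (four i) = 16 := by
  have key : ∀ j : ZMod 4, (Finset.univ.filter fun x : W8 =>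
      x.m = false ∧ inFour j x.a = true ∧ inFour j x.b = true).card = 16 := by decide +kernel
  rw [← key i]
  exact Nat.subtype_card _ (fun x => by simp [mem_four])

/-- An involution outside the base is conjugate to the switch. -/
theorem conj_switch : ∀ x : W8, x * x = 1 → x.m = true →
    (⟨x.a⁻¹, 1, false⟩ : W8) * x * (⟨x.a⁻¹, 1, false⟩ : W8)⁻¹ = Wm := by decide +kernel

/-- The diagonal elements, which centralize the switch. -/
theorem diag_switch : ∀ u : D, ∀ s : Bool,
    (⟨u, u, s⟩ : W8) * Wm * (⟨u, u, s⟩ : W8)⁻¹ = Wm := by decide +kernel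

/-- The conditions satisfied by the images of `F1` and `G1`. -/
def Good (a b : W8) : Prop :=
  a * b * (a * b) ≠ 1 ∧ a * b * (a * b) ≠ Wm * (a * b * (a * b)) * Wm ∧
    a * (Wm * b * Wm) = Wm * b * Wm * a

instance decGood (a b : W8) : Decidable (Good a b) := by unfold Good; infer_instance

theorem normal_form_fix : ∀ a : W8, a ∈ four 0 → ∀ b : W8, b ∈ four 1 → Good a b →
    ∃ u : D, ∃ s : Bool,
      ((⟨u, u, s⟩ : W8) * a * (⟨u, u, s⟩ : W8)⁻¹ = F1 ∨
        (⟨u, u, s⟩ : W8) * a * (⟨u, u, s⟩ : W8)⁻¹ = F1 * Z2) ∧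
      ((⟨u, u, s⟩ : W8) * b * (⟨u, u, s⟩ : W8)⁻¹ = G1 ∨
        (⟨u, u, s⟩ : W8) * b * (⟨u, u, s⟩ : W8)⁻¹ = G1 * Z2) := by decide +kernel

theorem normal_form_swap : ∀ a : W8, a ∈ four 1 → ∀ b : W8, b ∈ four 0 → Good a b →
    ∃ u : D, ∃ s : Bool,
      ((⟨u, u, s⟩ : W8) * a * (⟨u, u, s⟩ : W8)⁻¹ = G1 ∨
        (⟨u, u, s⟩ : W8) * a * (⟨u, u, s⟩ : W8)⁻¹ = G1 * Z2) ∧
      ((⟨u, u, s⟩ : W8) * b * (⟨u, u, s⟩ : W8)⁻¹ = F1 ∨
        (⟨u, u, s⟩ : W8) * b * (⟨u, u, s⟩ : W8)⁻¹ = F1 * Z2) := by decide +kernel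

theorem no_twist : ∀ p : W8, p * F1 * p⁻¹ ≠ F1 * Z2 := by decide +kernel

/-- A subgroup containing the three generators is everything. -/
theorem eq_top_of_gens (H : Subgroup W8) (h1 : F1 ∈ H) (h2 : G1 ∈ H) (h3 : Wm ∈ H) : H = ⊤ := by
  refine eq_top_iff.2 fun x _ => ?_
  have hr : ∀ i : ZMod 4, (⟨r i, 1, false⟩ : W8) ∈ H := by
    intro i
    have e : (⟨r i, 1, false⟩ : W8) = (F1 * G1) ^ i.val := by revert i; decide +kernel
    rw [e]; exact pow_mem (mul_mem h1 h2) _
  have ha : ∀ u : D, (⟨u, 1, false⟩ : W8) ∈ H := by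
    rintro (i | i)
    · exact hr i
    · have e : (⟨sr i, 1, false⟩ : W8) = F1 * ⟨r i, 1, false⟩ := by revert i; decide +kernel
      rw [e]; exact mul_mem h1 (hr i)
  obtain ⟨u, v, m⟩ := x
  have e : (⟨u, v, false⟩ : W8) = ⟨u, 1, false⟩ * (Wm * ⟨v, 1, false⟩ * Wm) := by
    simp [W8.mul_def, Wm]
  have huv : (⟨u, v, false⟩ : W8) ∈ H := e ▸ mul_mem (ha u) (mul_mem (mul_mem h3 (ha v)) h3)
  cases m
  · exact huv
  · have e' : (⟨u, v, true⟩ : W8) = ⟨u, v, false⟩ * Wm := by simp [W8.mul_def, Wm]
    exact e' ▸ mul_mem huv h3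

/-! ### The action on eight points -/

/-- The action of the dihedral group on four points. -/
def act4 : D → ZMod 4 → ZMod 4
  | r i, x => x + i
  | sr i, x => -(x + i)

theorem act4_mul (u v : D) (x : ZMod 4) : act4 (u * v) x = act4 u (act4 v x) := by
  revert u v x; decide +kernel

theorem act4_one (x : ZMod 4) : act4 1 x = x := by revert x; decide +kernel

/-- The action of the model on eight points. -/
def smulW (w : W8) (p : Bool × ZMod 4) : Bool × ZMod 4 :=
  (p.1 ^^ w.m, act4 (cond (p.1 ^^ w.m) w.b w.a) p.2)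

instance instW8Action : MulAction W8 (Bool × ZMod 4) where
  smul w p := smulW w p
  one_smul p := by
    show (p.1 ^^ false, act4 (cond (p.1 ^^ false) 1 1) p.2) = p
    simp [act4_one]
  mul_smul x y p := by
    obtain ⟨a, b, m⟩ := x; obtain ⟨c, d, n⟩ := y; obtain ⟨s, t⟩ := p
    show smulW _ _ = smulW _ (smulW _ _)
    cases m <;> cases n <;> cases s <;> simp [smulW, W8.mul_def, act4_mul]

theorem smul_faithful : ∀ w : W8, (∀ p : Bool × ZMod 4, w • p = p) → w = 1 := by decide +kernel

/-- The model is a Sylow 2-subgroup of the symmetric group of degree eight. -/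
theorem nonempty_equiv (T : Sylow 2 (Equiv.Perm (Fin 8))) :
    Nonempty (W8 ≃* (T : Subgroup (Equiv.Perm (Fin 8)))) := by
  haveI := Fact.mk Nat.prime_two
  let e : Bool × ZMod 4 ≃ Fin 8 := Fintype.equivFinOfCardEq (by simp)
  let φ : W8 →* Equiv.Perm (Fin 8) :=
    (Equiv.permCongrHom e).toMonoidHom.comp (MulAction.toPermHom W8 (Bool × ZMod 4))
  have hφ : Function.Injective φ := by
    refine (injective_iff_map_eq_one φ).2 fun w hw => smul_faithful w fun p => ?_
    have h1 : MulAction.toPermHom W8 (Bool × ZMod 4) w = 1 :=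
      (Equiv.permCongrHom e).injective (by rw [map_one]; exact hw)
    exact Equiv.congr_fun h1 p
  have hcard : Nat.card φ.range = 2 ^ (Nat.card (Equiv.Perm (Fin 8))).factorization 2 := by
    rw [← Nat.card_congr (MonoidHom.ofInjective hφ).toEquiv, W8.card, Nat.card_eq_fintype_card,
      Fintype.card_perm, Fintype.card_fin, Nat.factorization_def _ Nat.prime_two]
    have : (Nat.factorial 8) = 2 ^ 7 * 315 := by decide
    rw [this, padicValNat.mul (by norm_num) (by norm_num), padicValNat.prime_pow,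
      padicValNat.eq_zero_of_not_dvd (by norm_num : ¬ 2 ∣ 315)]
    rfl
  exact ⟨(MonoidHom.ofInjective hφ).trans
    ((MulEquiv.subgroupCongr (by rfl : φ.range = (Sylow.ofCard φ.range hcard : Subgroup _))).trans
      (Sylow.equiv _ T))⟩

/-! ### Homomorphisms out of the model -/

section Lift

variable {Q : Type*} [Group Q]

/-- The value on the dihedral group of a pair satisfying the dihedral relations. -/
def dlift (R F : Q) : D → Q
  | r i => R ^ i.val
  | sr i => F * R ^ i.val

theorem dlift_mul {R F : Q} (hR : R ^ 4 = 1) (hF : F * F = 1) (hFR : F * R * F = R⁻¹) (u v : D) :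
    dlift R F (u * v) = dlift R F u * dlift R F v := by
  have hmod : ∀ n : ℕ, R ^ (n % 4) = R ^ n := fun n => by
    conv_rhs => rw [← Nat.mod_add_div n 4, pow_add, pow_mul, hR, one_pow, mul_one]
  have hFi : F⁻¹ = F := inv_eq_of_mul_eq_one_right hF
  have hRi : R⁻¹ = R ^ 3 := inv_eq_of_mul_eq_one_right (by rw [← pow_succ', hR])
  have hswap : ∀ n : ℕ, R ^ n * F = F * (R ^ n)⁻¹ := fun n => by
    have h : F * R ^ n * F⁻¹ = (R ^ n)⁻¹ := by rw [← conj_pow, hFi, hFR, inv_pow]
    rw [hFi] at h
    calc R ^ n * F = F * (F * R ^ n * F) := by simp [← mul_assoc, hF]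
      _ = F * (R ^ n)⁻¹ := by rw [h]
  have hsub : ∀ i j : ZMod 4, R ^ (j - i).val = (R ^ i.val)⁻¹ * R ^ j.val := fun i j => by
    have e : (j - i).val = (3 * i.val + j.val) % 4 := by revert i j; decide +kernel
    rw [e, hmod, pow_add, pow_mul, ← hRi, inv_pow]
  rcases u with i | i <;> rcases v with j | j
  · simp only [r_mul_r, dlift, ← pow_add, ZMod.val_add, hmod]
  · simp only [r_mul_sr, dlift, hsub, ← mul_assoc, hswap]
  · simp only [sr_mul_r, dlift, ZMod.val_add, hmod, pow_add, mul_assoc]
  · simp only [sr_mul_sr, dlift, hsub]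
    calc (R ^ i.val)⁻¹ * R ^ j.val = F * F * ((R ^ i.val)⁻¹ * R ^ j.val) := by rw [hF, one_mul]
      _ = F * (F * (R ^ i.val)⁻¹) * R ^ j.val := by group
      _ = F * R ^ i.val * (F * R ^ j.val) := by rw [← hswap]; group

/-- The homomorphism of the dihedral group. -/
def dhom (R F : Q) (hR : R ^ 4 = 1) (hF : F * F = 1) (hFR : F * R * F = R⁻¹) : D →* Q where
  toFun := dlift R F
  map_one' := by show dlift R F (r 0) = 1; simp [dlift]
  map_mul' := dlift_mul hR hF hFR

/-- A group generated by a triple satisfying the relations of the model is an image of it. -/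
theorem exists_hom {R F W : Q} (hR : R ^ 4 = 1) (hF : F * F = 1) (hFR : F * R * F = R⁻¹)
    (hW : W * W = 1) (h1 : Commute R (W * R * W)) (h2 : Commute R (W * F * W))
    (h3 : Commute F (W * F * W)) :
    ∃ φ : W8 →* Q, φ ⟨r 1, 1, false⟩ = R ∧ φ F1 = F ∧ φ Wm = W := by
  have hWi : W⁻¹ = W := inv_eq_of_mul_eq_one_right hW
  let d : D →* Q := dhom R F hR hF hFR
  let d' : D →* Q := (MulAut.conj W).toMonoidHom.comp d
  have hd' : ∀ u, d' u = W * d u * W := fun u => by
    show W * d u * W⁻¹ = _; rw [hWi]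
  have h4 : Commute F (W * R * W) := by
    have h := congrArg (fun q => W * q * W) h2.eq
    show F * (W * R * W) = W * R * W * F
    simp only [← mul_assoc] at h ⊢
    calc F * W * R * W = W * W * F * W * R * W := by rw [hW, one_mul]
      _ = W * R * W * F * (W * W) := by
        simp only [← mul_assoc]; exact h.symm
      _ = W * R * W * F := by rw [hW, mul_one]
  have hcomm : ∀ u v, Commute (d u) (d' v) := by
    intro u v
    have hgen : ∀ X : Q, Commute R X → Commute F X → Commute (d u) X := fun X hRX hFX => by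
      rcases u with i | i
      · exact hRX.pow_left _
      · exact hFX.mul_left (hRX.pow_left _)
    rcases v with j | j
    · rw [hd']
      show Commute _ (W * R ^ j.val * W)
      have e : W * R ^ j.val * W = (W * R * W) ^ j.val := by
        conv_rhs => rw [show W * R * W = W * R * W⁻¹ by rw [hWi], conj_pow, hWi]
      rw [e]
      exact (hgen _ h1 h4).pow_right _
    · rw [hd']
      show Commute _ (W * (F * R ^ j.val) * W)
      have e : W * (F * R ^ j.val) * W = W * F * W * (W * R * W) ^ j.val := by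
        rw [show W * R * W = W * R * W⁻¹ by rw [hWi], conj_pow, hWi]
        simp [← mul_assoc, mul_assoc _ W W, hW]
      rw [e]
      exact (hgen _ h2 h3).mul_right ((hgen _ h1 h4).pow_right _)
  let f : W8 → Q := fun x => d x.a * d' x.b * (cond x.m W 1)
  have hsw : ∀ u, W * d u = d' u * W := fun u => by rw [hd', mul_assoc, hW, mul_one]
  have hsw' : ∀ u, W * d' u = d u * W := fun u => by
    rw [hd', ← mul_assoc, ← mul_assoc, hW, one_mul]
  have hmul : ∀ x y, f (x * y) = f x * f y := by
    rintro ⟨a, b, m⟩ ⟨c, e, n⟩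
    cases m
    · simp only [f, W8.mul_def, cond_false, Bool.false_xor, map_mul]
      calc d a * d c * (d' b * d' e) * cond n W 1 = d a * (d c * d' b) * d' e * cond n W 1 := by group
        _ = d a * (d' b * d c) * d' e * cond n W 1 := by rw [(hcomm c b).eq]
        _ = _ := by group
    · simp only [f, W8.mul_def, cond_true, map_mul]
      calc d a * d e * (d' b * d' c) * cond (true ^^ n) W 1
          = d a * (d e * d' b) * d' c * cond (true ^^ n) W 1 := by group
        _ = d a * (d' b * d e) * d' c * cond (true ^^ n) W 1 := by rw [(hcomm e b).eq]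
        _ = d a * d' b * (d e * d' c) * cond (true ^^ n) W 1 := by group
        _ = d a * d' b * (d e * d' c) * (W * cond n W 1) := by
          cases n <;> simp [hW]
        _ = d a * d' b * (d e * (d' c * W)) * cond n W 1 := by group
        _ = d a * d' b * ((d e * W) * d c) * cond n W 1 := by rw [← hsw c]; group
        _ = d a * d' b * (W * d' e * d c) * cond n W 1 := by rw [← hsw' e]
        _ = d a * d' b * W * (d' e * d c) * cond n W 1 := by group
        _ = d a * d' b * W * (d c * d' e * cond n W 1) := by rw [← (hcomm c e).eq]; group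
  refine ⟨MonoidHom.mk' f hmul, ?_, ?_, ?_⟩
  · show d (r 1) * d' 1 * 1 = R
    rw [map_one, mul_one, mul_one]
    show R ^ (1 : ZMod 4).val = R
    exact pow_one R
  · show d (sr 0) * d' 1 * 1 = F
    rw [map_one, mul_one, mul_one]
    show F * R ^ (0 : ZMod 4).val = F
    simp
  · show d 1 * d' 1 * W = W
    simp

end Lift

end CfsgLib.DWrTwo
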