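import Cfsg.Prelude.Def_CaseTheorems
import Cfsg.Agent.DWrTwo.Model
import Mathlib.GroupTheory.Nilpotent
import Mathlib.GroupTheory.PGroup

/-!
A 2-group of sectional rank at most four containing the wreath product of the dihedral group of
order eight by a group of order two properly.
-/

set_option autoImplicit false
set_option linter.unusedSectionVars false
set_option linter.style.haveILetI false

namespace CfsgLib.DWrTwo

open Subgroup

/-- A normal elementary abelian subgroup of order sixteen of the model is one of the two. -/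
theorem eq_four (V : Subgroup W8) (hn : ∀ h x, x ∈ V → h * x * h⁻¹ ∈ V)
    (hc : ∀ x ∈ V, ∀ y ∈ V, x * y = y * x) (hsq : ∀ x ∈ V, x * x = 1)
    (hcard : Nat.card V = 16) : V = four 0 ∨ V = four 1 := by
  have hsub : ∀ x ∈ V, x ∈ four 0 ∨ x ∈ four 1 := fun x hx =>
    candidate x (hsq x hx) fun h => hc x hx _ (hn h x hx)
  have h : V ≤ four 0 ∨ V ≤ four 1 := by
    by_contra hh
    push Not at hh
    obtain ⟨⟨x, hx, hx0⟩, y, hy, hy1⟩ :=
      And.intro (SetLike.not_le_iff_exists.1 hh.1) (SetLike.not_le_iff_exists.1 hh.2)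
    have hx1 := (hsub x hx).resolve_left hx0
    have hy0 := (hsub y hy).resolve_right hy1
    rcases hsub (x * y) (V.mul_mem hx hy) with h' | h'
    · exact hx0 (by simpa using mul_mem h' (inv_mem hy0))
    · exact hy1 (by simpa using mul_mem (inv_mem hx1) h')
  rcases h with h | h
  · exact Or.inl (Subgroup.eq_of_le_of_card_ge h (by rw [four_card, hcard]))
  · exact Or.inr (Subgroup.eq_of_le_of_card_ge h (by rw [four_card, hcard]))

theorem four_ne : four 0 ≠ four 1 := fun h => by
  have h1 : F1 ∈ four 0 := by decide +kernel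
  rw [h] at h1
  revert h1
  decide +kernel

variable {S : Type*} [Group S] [Finite S]

/-- The data: an embedding of the model into a 2-group of sectional rank at most four. -/
structure Emb (S : Type*) [Group S] where
  ι : W8 →* S
  inj : Function.Injective ι
  two : IsPGroup 2 S
  rank : Cfsg.SectionalPRankLE 2 4 S

variable (E : Emb S)

/-- The image. -/
abbrev Emb.R : Subgroup S := E.ι.range

theorem exists_pre {n : S} (hn : n ∈ normalizer (E.R : Set S)) (x : W8) :
    ∃ y, E.ι y = n * E.ι x * n⁻¹ :=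
  (mem_normalizer_iff.1 hn _).1 ⟨x, rfl⟩

/-- The automorphism induced by an element of the normalizer. -/
noncomputable def Emb.act {n : S} (hn : n ∈ normalizer (E.R : Set S)) : W8 →* W8 where
  toFun x := (exists_pre E hn x).choose
  map_one' := E.inj (by rw [(exists_pre E hn 1).choose_spec]; simp)
  map_mul' x y := E.inj (by
    rw [(exists_pre E hn _).choose_spec, map_mul E.ι, map_mul E.ι,
      (exists_pre E hn x).choose_spec, (exists_pre E hn y).choose_spec]
    group)

theorem ι_act {n : S} (hn : n ∈ normalizer (E.R : Set S)) (x : W8) :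
    E.ι (E.act hn x) = n * E.ι x * n⁻¹ := (exists_pre E hn x).choose_spec

theorem act_inj {n : S} (hn : n ∈ normalizer (E.R : Set S)) : Function.Injective (E.act hn) :=
  fun x y h => E.inj (by
    have h' := congrArg E.ι h
    rw [ι_act, ι_act] at h'
    exact mul_left_cancel (mul_right_cancel h'))

theorem act_mul {n : S} (hn : n ∈ normalizer (E.R : Set S)) (g : W8) (x : W8) :
    E.act (mul_mem (le_normalizer (H := E.R) ⟨g, rfl⟩) hn) x = g * E.act hn x * g⁻¹ :=
  E.inj (by rw [ι_act, map_mul, map_mul, map_inv, ι_act]; group)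

theorem act_four {n : S} (hn : n ∈ normalizer (E.R : Set S)) (i : ZMod 4) (hi : i = 0 ∨ i = 1) :
    (four i).map (E.act hn) = four 0 ∨ (four i).map (E.act hn) = four 1 := by
  have hsurj : Function.Surjective (E.act hn) := Finite.surjective_of_injective (act_inj E hn)
  have hnorm : ∀ x ∈ four i, ∀ h : W8, h * x * h⁻¹ ∈ four i := by
    rcases hi with rfl | rfl
    · exact four_normal
    · exact four_normal'
  have hab : ∀ x ∈ four i, ∀ y ∈ four i, x * y = y * x := by
    rcases hi with rfl | rfl <;> decide +kernel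
  have hsq : ∀ x ∈ four i, x * x = 1 := by
    rcases hi with rfl | rfl <;> decide +kernel
  refine eq_four _ ?_ ?_ ?_ (by rw [card_map_of_injective (act_inj E hn), four_card])
  · rintro h _ ⟨x, hx, rfl⟩
    obtain ⟨k, rfl⟩ := hsurj h
    exact ⟨k * x * k⁻¹, hnorm x hx k, by simp⟩
  · rintro _ ⟨x, hx, rfl⟩ _ ⟨y, hy, rfl⟩
    rw [← map_mul, hab x hx y hy, map_mul]
  · rintro _ ⟨x, hx, rfl⟩
    rw [← map_mul, hsq x hx, map_one]

/-- An element of the normalizer of the image either fixes or interchanges the two subgroups. -/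
theorem fix_or_swap {n : S} (hn : n ∈ normalizer (E.R : Set S)) :
    ((four 0).map (E.act hn) = four 0 ∧ (four 1).map (E.act hn) = four 1) ∨
      ((four 0).map (E.act hn) = four 1 ∧ (four 1).map (E.act hn) = four 0) := by
  have hne : (four 0).map (E.act hn) ≠ (four 1).map (E.act hn) :=
    fun h => four_ne (map_injective (act_inj E hn) h)
  rcases act_four E hn 0 (Or.inl rfl) with h | h <;>
    rcases act_four E hn 1 (Or.inr rfl) with h' | h'
  · exact absurd (h.trans h'.symm) hne
  · exact Or.inl ⟨h, h'⟩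
  · exact Or.inr ⟨h, h'⟩
  · exact absurd (h.trans h'.symm) hne

/-- The base of the model. -/
def base : Subgroup W8 where
  carrier := {x | x.m = false}
  one_mem' := rfl
  mul_mem' {x y} hx hy := by
    simp only [Set.mem_ofPred_eq] at hx hy ⊢
    simp [W8.mul_def, hx, hy]
  inv_mem' {x} hx := by
    simp only [Set.mem_ofPred_eq] at hx ⊢
    simp [W8.inv_def, hx]

theorem four_le_base (i : ZMod 4) : four i ≤ base := fun _ h => (mem_four.1 h).1

theorem base_le (H : Subgroup W8) (h1 : F1 ∈ H) (h2 : G1 ∈ H) (h3 : F2 ∈ H) (h4 : G2 ∈ H) :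
    base ≤ H := by
  intro x hx
  have key : ∀ x : W8, x.m = false → ∃ i : Fin 4, ∃ j : Fin 2, ∃ k : Fin 4, ∃ l : Fin 2,
      x = F1 ^ (j : ℕ) * (F1 * G1) ^ (i : ℕ) * (F2 ^ (l : ℕ) * (F2 * G2) ^ (k : ℕ)) := by
    decide +kernel
  obtain ⟨i, j, k, l, rfl⟩ := key x hx
  exact mul_mem (mul_mem (pow_mem h1 _) (pow_mem (mul_mem h1 h2) _))
    (mul_mem (pow_mem h3 _) (pow_mem (mul_mem h3 h4) _))

/-- The image of the switch can be moved to the switch by an element of the image. -/
theorem normalize_switch {n : S} (hn : n ∈ normalizer (E.R : Set S))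
    (h : ((four 0).map (E.act hn) ≤ base ∧ (four 1).map (E.act hn) ≤ base)) :
    ∃ g : W8, g * E.act hn Wm * g⁻¹ = Wm := by
  refine ⟨_, conj_switch _ ?_ ?_⟩
  · rw [← map_mul, show Wm * Wm = 1 by decide +kernel, map_one]
  · by_contra hm
    rw [Bool.not_eq_true] at hm
    have hF : F1 ∈ four 0 := by decide +kernel
    have hG : G1 ∈ four 1 := by decide +kernel
    have htop : base.comap (E.act hn) = ⊤ :=
      eq_top_of_gens _ (h.1 ⟨_, hF, rfl⟩) (h.2 ⟨_, hG, rfl⟩) hm
    obtain ⟨y, hy⟩ := Finite.surjective_of_injective (act_inj E hn) Wm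
    have h' : y ∈ base.comap (E.act hn) := htop ▸ mem_top y
    rw [mem_comap, hy] at h'
    exact Bool.noConfusion h'

theorem good_map {α : W8 →* W8} (hα : Function.Injective α) (hW : α Wm = Wm) :
    Good (α F1) (α G1) := by
  obtain ⟨g1, g2, g3⟩ : Good F1 G1 := by decide +kernel
  refine ⟨?_, ?_, ?_⟩
  · rw [← map_mul, ← map_mul]
    exact fun e => g1 (hα (e.trans (map_one α).symm))
  · rw [← hW, ← map_mul, ← map_mul, ← map_mul, ← map_mul]
    exact fun e => g2 (hα e)
  · rw [← hW, ← map_mul, ← map_mul, ← map_mul, ← map_mul, g3]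

/-- Normal form of an element fixing the two subgroups. -/
theorem normal_fix {n : S} (hn : n ∈ normalizer (E.R : Set S))
    (h : (four 0).map (E.act hn) = four 0 ∧ (four 1).map (E.act hn) = four 1) :
    ∃ g : W8, g * E.act hn Wm * g⁻¹ = Wm ∧
      (g * E.act hn F1 * g⁻¹ = F1 ∨ g * E.act hn F1 * g⁻¹ = F1 * Z2) ∧
      (g * E.act hn G1 * g⁻¹ = G1 ∨ g * E.act hn G1 * g⁻¹ = G1 * Z2) := by
  obtain ⟨g, hg⟩ := normalize_switch E hn ⟨h.1.trans_le (four_le_base 0), h.2.trans_le (four_le_base 1)⟩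
  let α : W8 →* W8 := (MulAut.conj g).toMonoidHom.comp (E.act hn)
  have hα : Function.Injective α := (MulAut.conj g).injective.comp (act_inj E hn)
  have ha : α F1 ∈ four 0 :=
    four_normal _ (h.1 ▸ ⟨F1, (by decide +kernel : F1 ∈ four 0), rfl⟩) g
  have hb : α G1 ∈ four 1 :=
    four_normal' _ (h.2 ▸ ⟨G1, (by decide +kernel : G1 ∈ four 1), rfl⟩) g
  obtain ⟨u, s, hu1, hu2⟩ := normal_form_fix _ ha _ hb (good_map hα hg)
  refine ⟨⟨u, u, s⟩ * g, ?_, ?_, ?_⟩
  · rw [show (⟨u, u, s⟩ : W8) * g * E.act hn Wm * ((⟨u, u, s⟩ : W8) * g)⁻¹ =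
      ⟨u, u, s⟩ * (g * E.act hn Wm * g⁻¹) * (⟨u, u, s⟩ : W8)⁻¹ by group, hg]
    exact diag_switch u s
  · rw [show (⟨u, u, s⟩ : W8) * g * E.act hn F1 * ((⟨u, u, s⟩ : W8) * g)⁻¹ =
      ⟨u, u, s⟩ * (g * E.act hn F1 * g⁻¹) * (⟨u, u, s⟩ : W8)⁻¹ by group]
    exact hu1
  · rw [show (⟨u, u, s⟩ : W8) * g * E.act hn G1 * ((⟨u, u, s⟩ : W8) * g)⁻¹ =
      ⟨u, u, s⟩ * (g * E.act hn G1 * g⁻¹) * (⟨u, u, s⟩ : W8)⁻¹ by group]
    exact hu2

/-- Normal form of an element interchanging the two subgroups. -/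
theorem normal_swap {n : S} (hn : n ∈ normalizer (E.R : Set S))
    (h : (four 0).map (E.act hn) = four 1 ∧ (four 1).map (E.act hn) = four 0) :
    ∃ g : W8, g * E.act hn Wm * g⁻¹ = Wm ∧
      (g * E.act hn F1 * g⁻¹ = G1 ∨ g * E.act hn F1 * g⁻¹ = G1 * Z2) ∧
      (g * E.act hn G1 * g⁻¹ = F1 ∨ g * E.act hn G1 * g⁻¹ = F1 * Z2) := by
  obtain ⟨g, hg⟩ := normalize_switch E hn ⟨h.1.trans_le (four_le_base 1), h.2.trans_le (four_le_base 0)⟩
  let α : W8 →* W8 := (MulAut.conj g).toMonoidHom.comp (E.act hn)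
  have hα : Function.Injective α := (MulAut.conj g).injective.comp (act_inj E hn)
  have ha : α F1 ∈ four 1 :=
    four_normal' _ (h.1 ▸ ⟨F1, (by decide +kernel : F1 ∈ four 0), rfl⟩) g
  have hb : α G1 ∈ four 0 :=
    four_normal _ (h.2 ▸ ⟨G1, (by decide +kernel : G1 ∈ four 1), rfl⟩) g
  obtain ⟨u, s, hu1, hu2⟩ := normal_form_swap _ ha _ hb (good_map hα hg)
  refine ⟨⟨u, u, s⟩ * g, ?_, ?_, ?_⟩
  · rw [show (⟨u, u, s⟩ : W8) * g * E.act hn Wm * ((⟨u, u, s⟩ : W8) * g)⁻¹ =
      ⟨u, u, s⟩ * (g * E.act hn Wm * g⁻¹) * (⟨u, u, s⟩ : W8)⁻¹ by group, hg]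
    exact diag_switch u s
  · rw [show (⟨u, u, s⟩ : W8) * g * E.act hn F1 * ((⟨u, u, s⟩ : W8) * g)⁻¹ =
      ⟨u, u, s⟩ * (g * E.act hn F1 * g⁻¹) * (⟨u, u, s⟩ : W8)⁻¹ by group]
    exact hu1
  · rw [show (⟨u, u, s⟩ : W8) * g * E.act hn G1 * ((⟨u, u, s⟩ : W8) * g)⁻¹ =
      ⟨u, u, s⟩ * (g * E.act hn G1 * g⁻¹) * (⟨u, u, s⟩ : W8)⁻¹ by group]
    exact hu2

/-- An element outside a subgroup has a power outside it whose square lies inside it. -/
theorem exists_sq_mem (h2 : IsPGroup 2 S) (H : Subgroup S) {x : S} (hx : x ∉ H) :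
    ∃ y ∈ zpowers x, y ∉ H ∧ y * y ∈ H := by
  classical
  obtain ⟨k, hk⟩ := h2 x
  have hex : ∃ j, x ^ 2 ^ j ∈ H := ⟨k, by rw [hk]; exact H.one_mem⟩
  obtain ⟨j, hj⟩ := Nat.exists_eq_succ_of_ne_zero (n := Nat.find hex) fun h0 => hx (by
    have h := Nat.find_spec hex
    rwa [h0, pow_zero, pow_one] at h)
  refine ⟨x ^ 2 ^ j, pow_mem (mem_zpowers x) _, Nat.find_min hex (by omega), ?_⟩
  have h := Nat.find_spec hex
  rw [hj, pow_succ, pow_mul, pow_two] at h
  exact h

/-- A product of five commuting involutions modulo a small central subgroup. -/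
theorem core {n : S} (hn : n ∈ normalizer (E.R : Set S)) (hnR : n ∉ E.R) (hn2 : n * n ∈ E.R)
    (hW : E.act hn Wm = Wm) (hF : E.act hn F1 = F1 ∨ E.act hn F1 = F1 * Z2)
    (hG : E.act hn G1 = G1 ∨ E.act hn G1 = G1 * Z2) : False := by
  classical
  set α := E.act hn with hα
  have hZ2 : α Z2 = Z2 := by
    rw [show Z2 = Wm * (F1 * G1) * Wm * (Wm * (F1 * G1) * Wm) by decide +kernel]
    simp only [map_mul, hW]
    rcases hF with h | h <;> rcases hG with h' | h' <;> rw [h, h'] <;> decide +kernel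
  have hZ1 : α Z1 = Z1 := by
    rw [show Z1 = Wm * Z2 * Wm by decide +kernel]
    simp only [map_mul, hW, hZ2]
  have hF2 : α F2 = F2 ∨ α F2 = F2 * Z1 := by
    rw [show F2 = Wm * F1 * Wm by decide +kernel]
    simp only [map_mul, hW]
    rcases hF with h | h <;> rw [h]
    · exact Or.inl rfl
    · exact Or.inr (by decide +kernel)
  have hG2 : α G2 = G2 ∨ α G2 = G2 * Z1 := by
    rw [show G2 = Wm * G1 * Wm by decide +kernel]
    simp only [map_mul, hW]
    rcases hG with h | h <;> rw [h]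
    · exact Or.inl rfl
    · exact Or.inr (by decide +kernel)
  obtain ⟨p, hp⟩ := hn2
  have hconj : ∀ x, α (α x) = x → p * x = x * p := fun x hx => E.inj (by
    have h := congrArg E.ι hx
    rw [hα, ι_act, ι_act, show n * (n * E.ι x * n⁻¹) * n⁻¹ = n * n * E.ι x * (n * n)⁻¹ by group,
      ← hp, mul_inv_eq_iff_eq_mul] at h
    rwa [map_mul, map_mul])
  have hp0 : p = 1 ∨ p = Zd := by
    refine central p (hconj F1 ?_) (hconj G1 ?_) (hconj Wm ?_)
    · rcases hF with h | h
      · rw [h, h]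
      · rw [h, map_mul, h, hZ2]; decide +kernel
    · rcases hG with h | h
      · rw [h, h]
      · rw [h, map_mul, h, hZ2]; decide +kernel
    · rw [hW, hW]
  -- the two subgroups
  set K : Subgroup S := (four 0 ⊓ four 1).map E.ι with hK
  let gens : Set S := {E.ι F1, E.ι F2, E.ι G1, E.ι G2, n}
  set X : Subgroup S := closure gens with hX
  have hKcard : Nat.card K = 4 := by
    rw [hK, card_map_of_injective E.inj]
    have key : (Finset.univ.filter fun x : W8 => x ∈ four 0 ∧ x ∈ four 1).card = 4 := by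
      decide +kernel
    exact (Nat.subtype_card _ (fun x => by simp [mem_inf])).trans key
  have hmem : ∀ x, x ∈ four 0 → x ∈ four 1 → E.ι x ∈ K := fun x h h' => ⟨x, ⟨h, h'⟩, rfl⟩
  have hKX : K ≤ X := by
    have hb : base ≤ X.comap E.ι := base_le _
      (subset_closure (by simp [gens])) (subset_closure (by simp [gens]))
      (subset_closure (by simp [gens])) (subset_closure (by simp [gens]))
    rintro _ ⟨x, hx, rfl⟩
    exact hb (four_le_base 0 hx.1)
  have hcent : ∀ k ∈ K, ∀ x ∈ gens, x * k = k * x := by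
    rintro _ ⟨z, hz, rfl⟩ x hx
    have hz4 : z = 1 ∨ z = Z1 ∨ z = Z2 ∨ z = Zd := by
      have key : ∀ z : W8, z ∈ four 0 → z ∈ four 1 → z = 1 ∨ z = Z1 ∨ z = Z2 ∨ z = Zd := by
        decide +kernel
      exact key z hz.1 hz.2
    have hαz : α z = z := by
      rcases hz4 with rfl | rfl | rfl | rfl
      · exact map_one α
      · exact hZ1
      · exact hZ2
      · rw [show Zd = Z1 * Z2 by decide +kernel, map_mul, hZ1, hZ2]
    have hbase : ∀ y : W8, y.m = false → E.ι y * E.ι z = E.ι z * E.ι y := fun y hy => by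
      have key : ∀ z : W8, z ∈ four 0 → z ∈ four 1 → ∀ y : W8, y.m = false → y * z = z * y := by
        decide +kernel
      rw [← map_mul, ← map_mul, key z hz.1 hz.2 y hy]
    simp only [gens, Set.mem_insert_iff, Set.mem_singleton_iff] at hx
    rcases hx with rfl | rfl | rfl | rfl | rfl
    · exact hbase _ rfl
    · exact hbase _ rfl
    · exact hbase _ rfl
    · exact hbase _ rfl
    · rw [← mul_inv_eq_iff_eq_mul, ← ι_act E hn, ← hα, hαz]
  haveI hKn : (K.subgroupOf X).Normal := by
    refine ⟨fun k hk x => ?_⟩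
    have hc : (x : S) ∈ centralizer (K : Set S) :=
      (closure_le (centralizer (K : Set S))).2
        (fun y hy => mem_centralizer_iff.2 fun k hk => (hcent k hk y hy).symm) x.2
    rw [mem_subgroupOf] at hk ⊢
    rw [coe_mul, coe_mul, coe_inv, ← mem_centralizer_iff.1 hc _ hk, mul_inv_cancel_right]
    exact hk
  let π : X →* X ⧸ K.subgroupOf X := QuotientGroup.mk' _
  -- generators of the quotient
  let gQ : Set (X ⧸ K.subgroupOf X) := π '' ((↑) ⁻¹' gens)
  have hgen : closure gQ = ⊤ := by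
    rw [← MonoidHom.map_closure, closure_closure_coe_preimage]
    exact Subgroup.map_top_of_surjective _ (QuotientGroup.mk'_surjective _)
  have hmod : ∀ a b : X, (a : S)⁻¹ * b ∈ K → π a = π b := fun a b h =>
    QuotientGroup.eq.2 (mem_subgroupOf.2 (by simpa using h))
  have hWK : ∀ x : W8, x ∈ four 0 ∧ x ∈ four 1 → ∀ (u v : S), u = E.ι x * v → u * v⁻¹ ∈ K :=
    fun x hx u v h => by rw [h, mul_inv_cancel_right]; exact hmem x hx.1 hx.2
  have hnF : ∀ f ∈ ({F1, F2, G1, G2} : Set W8), (E.ι f * n)⁻¹ * (n * E.ι f) ∈ K := by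
    intro f hf
    have hval : f⁻¹ * α f ∈ four 0 ∧ f⁻¹ * α f ∈ four 1 := by
      simp only [Set.mem_insert_iff, Set.mem_singleton_iff] at hf
      rcases hf with rfl | rfl | rfl | rfl
      · rcases hF with h | h <;> rw [h] <;> decide +kernel
      · rcases hF2 with h | h <;> rw [h] <;> decide +kernel
      · rcases hG with h | h <;> rw [h] <;> decide +kernel
      · rcases hG2 with h | h <;> rw [h] <;> decide +kernel
    have hk : E.ι (f⁻¹ * α f) ∈ K := hmem _ hval.1 hval.2
    rw [map_mul, map_inv, hα, ι_act] at hk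
    have e : (E.ι f * n)⁻¹ * (n * E.ι f) = n⁻¹ * ((E.ι f)⁻¹ * (n * E.ι f * n⁻¹)) * n := by group
    rw [e]
    have hc : n * ((E.ι f)⁻¹ * (n * E.ι f * n⁻¹)) = (E.ι f)⁻¹ * (n * E.ι f * n⁻¹) * n :=
      hcent _ hk n (by simp [gens])
    rw [mul_assoc n⁻¹, ← hc, inv_mul_cancel_left]
    exact hk
  have hsqK : ∀ a ∈ gens, a * a ∈ K := by
    intro a ha
    simp only [gens, Set.mem_insert_iff, Set.mem_singleton_iff] at ha
    rcases ha with rfl | rfl | rfl | rfl | rfl
    · rw [← map_mul]; exact hmem _ (by decide +kernel) (by decide +kernel)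
    · rw [← map_mul]; exact hmem _ (by decide +kernel) (by decide +kernel)
    · rw [← map_mul]; exact hmem _ (by decide +kernel) (by decide +kernel)
    · rw [← map_mul]; exact hmem _ (by decide +kernel) (by decide +kernel)
    · rcases hp0 with rfl | rfl <;> rw [← hp] <;> exact hmem _ (by decide +kernel) (by decide +kernel)
  have hcommK : ∀ a ∈ gens, ∀ b ∈ gens, (a * b)⁻¹ * (b * a) ∈ K := by
    have hinv : ∀ a b : S, (a * b)⁻¹ * (b * a) ∈ K → (b * a)⁻¹ * (a * b) ∈ K := fun a b h => by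
      simpa [mul_assoc] using K.inv_mem h
    have hWW : ∀ f g : W8, (f * g)⁻¹ * (g * f) ∈ four 0 → (f * g)⁻¹ * (g * f) ∈ four 1 →
        (E.ι f * E.ι g)⁻¹ * (E.ι g * E.ι f) ∈ K := fun f g h h' => by
      rw [← map_mul, ← map_mul, ← map_inv, ← map_mul]; exact hmem _ h h'
    intro a ha b hb
    have h4 : ∀ {c : S}, c ∈ gens → c = n ∨ ∃ f ∈ ({F1, F2, G1, G2} : Set W8), c = E.ι f := by
      intro c hc
      simp only [gens, Set.mem_insert_iff, Set.mem_singleton_iff] at hc
      rcases hc with h | h | h | h | h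
      · exact Or.inr ⟨F1, by simp, h⟩
      · exact Or.inr ⟨F2, by simp, h⟩
      · exact Or.inr ⟨G1, by simp, h⟩
      · exact Or.inr ⟨G2, by simp, h⟩
      · exact Or.inl h
    rcases h4 ha with rfl | ⟨f, hf, rfl⟩ <;> rcases h4 hb with rfl | ⟨g, hg, rfl⟩
    · simp
    · exact hinv _ _ (hnF g hg)
    · exact hnF f hf
    · simp only [Set.mem_insert_iff, Set.mem_singleton_iff] at hf hg
      rcases hf with rfl | rfl | rfl | rfl <;> rcases hg with rfl | rfl | rfl | rfl <;>
        exact hWW _ _ (by decide +kernel) (by decide +kernel)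
  have hQcomm : IsMulCommutative (⊤ : Subgroup (X ⧸ K.subgroupOf X)) := by
    rw [← hgen]
    refine Subgroup.isMulCommutative_closure ?_
    rintro _ ⟨a, ha, rfl⟩ _ ⟨b, hb, rfl⟩
    rw [← map_mul, ← map_mul]
    exact hmod _ _ (hcommK _ ha _ hb)
  have hQsq : ∀ q : X ⧸ K.subgroupOf X, q ∈ (⊤ : Subgroup (X ⧸ K.subgroupOf X)) → q ^ 2 = 1 := by
    intro q hqtop
    clear hqtop
    have hq : q ∈ closure gQ := hgen ▸ mem_top q
    induction hq using closure_induction with
    | mem _ h =>
      obtain ⟨a, ha, rfl⟩ := h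
      rw [pow_two, ← map_mul, ← map_one π]
      refine (hmod _ _ ?_).symm
      simpa using hsqK _ ha
    | one => simp
    | mul x y _ _ hx hy =>
      have hxy : Commute x y :=
        congrArg Subtype.val (hQcomm.is_comm.comm ⟨x, mem_top x⟩ ⟨y, mem_top y⟩)
      rw [hxy.mul_pow, hx, hy, one_mul]
    | inv x _ hx => rw [inv_pow, hx, inv_one]
  have hle := E.rank X (K.subgroupOf X) ⊤ hQcomm hQsq
  rw [card_top, ← index_eq_card] at hle
  -- the order of the subgroup
  have hBX : base.map E.ι ≤ X := by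
    rw [map_le_iff_le_comap]
    exact base_le _ (subset_closure (by simp [gens])) (subset_closure (by simp [gens]))
      (subset_closure (by simp [gens])) (subset_closure (by simp [gens]))
  have hBcard : Nat.card (base.map E.ι) = 64 := by
    rw [card_map_of_injective E.inj]
    have key : (Finset.univ.filter fun x : W8 => x.m = false).card = 64 := by decide +kernel
    exact (Nat.subtype_card _ (fun x => by simp [base])).trans key
  have hlt : base.map E.ι < X := by
    refine lt_of_le_of_ne hBX fun h => hnR ?_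
    have hnX : n ∈ X := subset_closure (by simp [gens])
    rw [← h] at hnX
    obtain ⟨x, -, hx⟩ := hnX
    exact ⟨x, hx⟩
  have hdvd := card_dvd_of_le hlt.le
  have hbig : 64 < Nat.card X := by
    rw [← hBcard]
    refine lt_of_le_of_ne (Nat.le_of_dvd Nat.card_pos hdvd) fun h => hlt.ne ?_
    exact eq_of_le_of_card_ge hlt.le h.ge
  obtain ⟨c, hc⟩ := hdvd
  rw [hBcard] at hc
  have h5 : (K.subgroupOf X).index * Nat.card (K.subgroupOf X) = Nat.card X :=
    index_mul_card _
  rw [Nat.card_congr (subgroupOfEquivOfLe hKX).toEquiv, hKcard] at h5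
  omega

/-- Nothing outside the image normalizes it and fixes the two subgroups. -/
theorem mem_of_fix {n : S} (hn : n ∈ normalizer (E.R : Set S)) (hn2 : n * n ∈ E.R)
    (h : (four 0).map (E.act hn) = four 0 ∧ (four 1).map (E.act hn) = four 1) : n ∈ E.R := by
  by_contra hnR
  obtain ⟨g, hW, hF, hG⟩ := normal_fix E hn h
  have hn' := mul_mem (le_normalizer (H := E.R) ⟨g, rfl⟩) hn
  refine core E hn' (fun h' => hnR ?_) ?_ (by rw [act_mul E hn]; exact hW)
    (by rw [act_mul E hn]; exact hF) (by rw [act_mul E hn]; exact hG)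
  · simpa using mul_mem (inv_mem (⟨g, rfl⟩ : E.ι g ∈ E.R)) h'
  · rw [show E.ι g * n * (E.ι g * n) = E.ι g * (n * E.ι g * n⁻¹) * (n * n) by group]
    exact mul_mem (mul_mem ⟨g, rfl⟩ ((mem_normalizer_iff.1 hn _).1 ⟨g, rfl⟩)) hn2

/-- The image of a normal elementary abelian subgroup of order sixteen has normalizer the image. -/
theorem normalizer_four (i : ZMod 4) (hi : i = 0 ∨ i = 1) :
    normalizer (((four i).map E.ι : Subgroup S) : Set S) = E.R := by
  set M := normalizer (((four i).map E.ι : Subgroup S) : Set S) with hM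
  have hnorm : ∀ x ∈ four i, ∀ h : W8, h * x * h⁻¹ ∈ four i := by
    rcases hi with rfl | rfl
    · exact four_normal
    · exact four_normal'
  have hRM : E.R ≤ M := by
    rintro _ ⟨h, rfl⟩
    refine mem_normalizer_iff.2 fun y => ⟨?_, ?_⟩
    · rintro ⟨x, hx, rfl⟩
      exact ⟨h * x * h⁻¹, hnorm x hx h, by simp⟩
    · rintro ⟨x, hx, hxy⟩
      refine ⟨h⁻¹ * x * h, by simpa using hnorm x hx h⁻¹, ?_⟩
      simp [hxy, mul_assoc]
  by_contra hne
  haveI : Group.IsNilpotent M := (E.two.to_subgroup M).isNilpotent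
  have hlt : E.R.subgroupOf M < ⊤ := lt_top_iff_ne_top.2 fun h =>
    hne (le_antisymm (subgroupOf_eq_top.1 h) hRM)
  obtain ⟨y, hy, hyR⟩ := SetLike.exists_of_lt (Group.normalizerCondition_of_isNilpotent _ hlt)
  obtain ⟨n, hny, hnR, hn2⟩ :=
    exists_sq_mem (E.two.to_subgroup M) (E.R.subgroupOf M) hyR
  have hn : (n : S) ∈ normalizer (E.R : Set S) := by
    have h1 : n ∈ normalizer ((E.R.subgroupOf M : Subgroup M) : Set M) := zpowers_le.2 hy hny
    refine mem_normalizer_iff.2 fun s => ⟨fun hs => ?_, fun hs => ?_⟩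
    · exact mem_subgroupOf.1 ((mem_normalizer_iff.1 h1 ⟨s, hRM hs⟩).1 (mem_subgroupOf.2 hs))
    · have hsM : s ∈ M := by
        simpa [mul_assoc] using mul_mem (mul_mem (inv_mem n.2) (hRM hs)) n.2
      exact mem_subgroupOf.1 ((mem_normalizer_iff.1 h1 ⟨s, hsM⟩).2 (mem_subgroupOf.2 hs))
  have hfix : (four i).map (E.act hn) = four i := by
    refine eq_of_le_of_card_ge ?_ (by rw [card_map_of_injective (act_inj E hn)])
    rintro _ ⟨x, hx, rfl⟩
    obtain ⟨x', hx', he⟩ := (mem_normalizer_iff.1 n.2 _).1 ⟨x, hx, rfl⟩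
    rw [← ι_act E hn] at he
    exact E.inj he ▸ hx'
  refine hnR (mem_subgroupOf.2 (mem_of_fix E hn (mem_subgroupOf.1 hn2) ?_))
  rcases fix_or_swap E hn with h | h
  · exact h
  · exfalso
    rcases hi with rfl | rfl
    · exact four_ne (hfix.symm.trans h.1)
    · exact four_ne (h.2.symm.trans hfix)

theorem centralizer_range_le : centralizer (E.R : Set S) ≤ E.R := by
  refine le_trans ?_ (normalizer_four E 0 (Or.inl rfl)).le
  refine le_trans (Subgroup.centralizer_le ?_) (centralizer_le_normalizer _)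
  rintro _ ⟨x, -, rfl⟩
  exact ⟨x, rfl⟩

theorem center_eq [Nontrivial S] (x : S) : x ∈ center S ↔ x = 1 ∨ x = E.ι Zd := by
  have hsub : ∀ x ∈ center S, x = 1 ∨ x = E.ι Zd := by
    intro x hx
    obtain ⟨w, rfl⟩ := centralizer_range_le E (Subgroup.center_le_centralizer _ hx)
    have hc : ∀ v : W8, w * v = v * w := fun v =>
      E.inj (by rw [map_mul, map_mul, (mem_center_iff.1 hx (E.ι v))])
    rcases central w (hc _) (hc _) (hc _) with rfl | rfl
    · exact Or.inl (map_one _)
    · exact Or.inr rfl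
  refine ⟨hsub x, ?_⟩
  rintro (rfl | rfl)
  · exact one_mem _
  haveI := Fact.mk Nat.prime_two
  haveI := E.two.center_nontrivial
  obtain ⟨⟨y, hy⟩, hy1⟩ := exists_ne (1 : center S)
  rcases hsub y hy with rfl | rfl
  · exact absurd rfl hy1
  · exact hy

theorem swap_of_not_mem {n : S} (hn : n ∈ normalizer (E.R : Set S)) (hnR : n ∉ E.R) :
    (four 0).map (E.act hn) = four 1 ∧ (four 1).map (E.act hn) = four 0 := by
  refine (fix_or_swap E hn).resolve_left fun h => hnR ?_
  rw [← normalizer_four E 0 (Or.inl rfl)]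
  refine mem_normalizer_iff.2 fun y => ⟨?_, ?_⟩
  · rintro ⟨x, hx, rfl⟩
    exact ⟨E.act hn x, h.1.le ⟨x, hx, rfl⟩, ι_act E hn x⟩
  · rintro ⟨x, hx, hxy⟩
    obtain ⟨x', hx', rfl⟩ := h.1.ge hx
    refine ⟨x', hx', ?_⟩
    rw [ι_act] at hxy
    exact mul_left_cancel (mul_right_cancel hxy)

/-- The product of two elements of the normalizer outside the image lies in it. -/
theorem mul_mem_of_not_mem {m n : S} (hm : m ∈ normalizer (E.R : Set S)) (hmR : m ∉ E.R)
    (hn : n ∈ normalizer (E.R : Set S)) (hnR : n ∉ E.R) : m * n ∈ E.R := by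
  by_contra hh
  have h1 := (swap_of_not_mem E (mul_mem hm hn) hh).1
  have h2 := (swap_of_not_mem E hn hnR).1
  have h3 := (swap_of_not_mem E hm hmR).2
  have he : E.act (mul_mem hm hn) = (E.act hm).comp (E.act hn) :=
    MonoidHom.ext fun x => E.inj (by rw [MonoidHom.comp_apply, ι_act, ι_act, ι_act]; group)
  rw [he, ← Subgroup.map_map, h2, h3] at h1
  exact four_ne h1

theorem relIndex_two (hR : E.R ≠ ⊤) : E.R.relIndex (normalizer (E.R : Set S)) = 2 := by
  haveI : Group.IsNilpotent S := by haveI := Fact.mk Nat.prime_two; exact E.two.isNilpotent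
  obtain ⟨n, hn, hnR⟩ := SetLike.exists_of_lt
    (Group.normalizerCondition_of_isNilpotent E.R (lt_top_iff_ne_top.2 hR))
  refine index_eq_two_iff_exists_notMem_and.2 ⟨⟨n, hn⟩, hnR, fun b => ?_⟩
  by_cases hb : (b : S) ∈ E.R
  · exact Or.inr hb
  · exact Or.inl (mul_mem_of_not_mem E b.2 hb hn hnR)

/-- The quotient of the normalizer by the centre is again the model. -/
theorem quotient_equiv [Nontrivial S] (hR : E.R ≠ ⊤)
    [hn0 : ((center S).subgroupOf (normalizer (E.R : Set S))).Normal] :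
    Nonempty (W8 ≃* normalizer (E.R : Set S) ⧸ (center S).subgroupOf (normalizer (E.R : Set S))) := by
  classical
  set N := normalizer (E.R : Set S) with hN
  haveI : Group.IsNilpotent S := by haveI := Fact.mk Nat.prime_two; exact E.two.isNilpotent
  obtain ⟨n₀, hn₀, hn₀R⟩ := SetLike.exists_of_lt
    (Group.normalizerCondition_of_isNilpotent E.R (lt_top_iff_ne_top.2 hR))
  obtain ⟨g, hW, hF, hG⟩ := normal_swap E hn₀ (swap_of_not_mem E hn₀ hn₀R)
  rw [← act_mul E hn₀] at hW hF hG
  set n := E.ι g * n₀ with hndef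
  have hn : n ∈ N := mul_mem (le_normalizer (H := E.R) ⟨g, rfl⟩) hn₀
  have hnR : n ∉ E.R := fun h => hn₀R (by
    simpa [hndef] using mul_mem (inv_mem (⟨g, rfl⟩ : E.ι g ∈ E.R)) h)
  set α := E.act hn with hα
  change α Wm = Wm at hW
  obtain ⟨p, hp⟩ := mul_mem_of_not_mem E hn hnR hn hnR
  have hconj : ∀ x, p * x * p⁻¹ = α (α x) := fun x => E.inj (by
    rw [map_mul, map_mul, map_inv, hp, hα, ι_act, ι_act]; group)
  have hZ2 : α Z2 = Z2 := by
    rw [show Z2 = Wm * (F1 * G1) * Wm * (Wm * (F1 * G1) * Wm) by decide +kernel]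
    simp only [map_mul, hW]
    rcases hF with h | h <;> rcases hG with h' | h' <;> rw [show α F1 = _ from h, show α G1 = _ from h'] <;>
      decide +kernel
  -- the two exceptional elements agree
  have hst : (α F1 = G1 ∧ α G1 = F1) ∨ (α F1 = G1 * Z2 ∧ α G1 = F1 * Z2) := by
    rcases hF with h | h <;> rcases hG with h' | h'
    · exact Or.inl ⟨h, h'⟩
    · refine absurd ?_ (no_twist p)
      rw [hconj, show α F1 = G1 from h, show α G1 = F1 * Z2 from h']
    · refine absurd ?_ (no_twist p)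
      rw [hconj, show α F1 = G1 * Z2 from h, map_mul, show α G1 = F1 from h', hZ2]
    · exact Or.inr ⟨h, h'⟩
  have hp0 : p = 1 ∨ p = Zd := by
    have hfix : ∀ x, α (α x) = x → p * x = x * p := fun x hx => by
      have h := hconj x; rw [hx] at h; exact mul_inv_eq_iff_eq_mul.1 h
    refine central p (hfix F1 ?_) (hfix G1 ?_) (hfix Wm (by rw [hW, hW]))
    · rcases hst with ⟨h, h'⟩ | ⟨h, h'⟩
      · rw [h, h']
      · rw [h, map_mul, h', hZ2]; decide +kernel
    · rcases hst with ⟨h, h'⟩ | ⟨h, h'⟩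
      · rw [h', h]
      · rw [h', map_mul, h, hZ2]; decide +kernel
  let π : N →* N ⧸ (center S).subgroupOf N := QuotientGroup.mk' _
  let j : W8 →* N := E.ι.codRestrict N fun x => le_normalizer (H := E.R) ⟨x, rfl⟩
  let q : W8 →* N ⧸ (center S).subgroupOf N := π.comp j
  let nn := π ⟨n, hn⟩
  have hq : ∀ {x y : W8}, (x⁻¹ * y = 1 ∨ x⁻¹ * y = Zd) → q x = q y := fun {x y} h => by
    refine QuotientGroup.eq.2 (mem_subgroupOf.2 ((center_eq E _).2 ?_))
    show (E.ι x)⁻¹ * E.ι y = 1 ∨ (E.ι x)⁻¹ * E.ι y = E.ι Zd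
    rw [← map_inv, ← map_mul]
    rcases h with h | h <;> rw [h]
    · exact Or.inl (map_one _)
    · exact Or.inr rfl
  have hnc : ∀ x, nn * q x = q (α x) * nn := fun x => by
    show π ⟨n, hn⟩ * π (j x) = π (j (α x)) * π ⟨n, hn⟩
    rw [← map_mul, ← map_mul]
    refine congrArg π (Subtype.ext ?_)
    show n * E.ι x = E.ι (α x) * n
    rw [hα, ι_act, inv_mul_cancel_right]
  have hnn : nn * nn = 1 := by
    show π ⟨n, hn⟩ * π ⟨n, hn⟩ = 1
    rw [← map_mul]
    refine (QuotientGroup.eq_one_iff _).2 (mem_subgroupOf.2 ((center_eq E _).2 ?_))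
    show n * n = 1 ∨ n * n = E.ι Zd
    rw [← hp]
    rcases hp0 with rfl | rfl
    · exact Or.inl (map_one _)
    · exact Or.inr rfl
  -- products containing the new element twice
  have two : ∀ x y, q x * nn * (q y * nn) = q (x * α y) := fun x y => by
    rw [mul_assoc, ← mul_assoc nn, hnc, mul_assoc (q (α y)), hnn, mul_one, map_mul]
  have left : ∀ x y, q x * (q y * nn) = q (x * y) * nn := fun x y => by
    rw [map_mul, mul_assoc]
  have right : ∀ x y, q y * nn * q x = q (y * α x) * nn := fun x y => by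
    rw [mul_assoc, hnc, map_mul, mul_assoc]
  have hF2' : α F2 = Wm * α F1 * Wm := by
    rw [show F2 = Wm * F1 * Wm by decide +kernel]
    simp only [map_mul, hW]
  set R := q (F1 * F2) * nn with hRdef
  set F := q (F1 * F2 * Wm) with hFdef
  set W := q F2 with hWdef
  have hR2 : R * R = q (F1 * F2 * α (F1 * F2)) := two _ _
  have hWR : W * R * W = q (F2 * (F1 * F2) * α F2) * nn := by
    rw [hWdef, hRdef, left, right]
  obtain ⟨φ, hφR, hφF, hφW⟩ := exists_hom (R := R) (F := F) (W := W) (by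
      rw [show R ^ 4 = R * R * (R * R) by simp only [pow_succ, pow_zero, one_mul, mul_assoc], hR2,
        ← map_mul, ← map_one q]
      refine hq ?_
      simp only [map_mul, hF2']
      rcases hst with ⟨h, -⟩ | ⟨h, -⟩ <;> rw [h] <;> decide +kernel)
    (by
      rw [hFdef, ← map_mul, show F1 * F2 * Wm * (F1 * F2 * Wm) = 1 by decide +kernel, map_one])
    (by
      rw [eq_comm, inv_eq_iff_mul_eq_one, show R * (F * R * F) = R * (F * R) * F by
        simp only [mul_assoc], hFdef, hRdef, left, two, ← map_mul, ← map_one q]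
      refine hq ?_
      simp only [map_mul, hF2', hW]
      rcases hst with ⟨h, -⟩ | ⟨h, -⟩ <;> rw [h] <;> decide +kernel)
    (by rw [hWdef, ← map_mul, show F2 * F2 = 1 by decide +kernel, map_one])
    (by
      show R * (W * R * W) = W * R * W * R
      rw [hWR, hRdef, two, two]
      refine hq ?_
      simp only [map_mul, hF2', hW]
      rcases hst with ⟨h, h'⟩ | ⟨h, h'⟩ <;> simp only [h, h', hZ2, map_mul] <;> decide +kernel)
    (by
      show R * (W * F * W) = W * F * W * R
      rw [hWdef, hFdef, ← map_mul, ← map_mul, hRdef, right, left]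
      refine congrArg (· * nn) (hq ?_)
      simp only [map_mul, hF2', hW]
      rcases hst with ⟨h, h'⟩ | ⟨h, h'⟩ <;> rw [h] <;> decide +kernel)
    (by
      show F * (W * F * W) = W * F * W * F
      simp only [hWdef, hFdef, ← map_mul]
      exact congrArg q (by decide +kernel))
  -- surjectivity
  have hsurjq : ∀ x, q x ∈ φ.range := by
    have hWr : q F2 ∈ φ.range := ⟨Wm, hφW⟩
    have hFr : q (F1 * F2 * Wm) ∈ φ.range := ⟨F1, hφF⟩
    have hWm : q Wm ∈ φ.range := by
      rw [show Wm = F2 * (F1 * F2 * Wm) * F2 by decide +kernel, map_mul, map_mul]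
      exact mul_mem (mul_mem hWr hFr) hWr
    have hF1 : q F1 ∈ φ.range := by
      rw [show F1 = Wm * F2 * Wm by decide +kernel, map_mul, map_mul]
      exact mul_mem (mul_mem hWm hWr) hWm
    have hnr : nn ∈ φ.range := by
      have hRr : R ∈ φ.range := ⟨_, hφR⟩
      have e : nn = (q (F1 * F2))⁻¹ * R := by rw [hRdef, inv_mul_cancel_left]
      rw [e, map_mul q]
      exact mul_mem (inv_mem (mul_mem hF1 hWr)) hRr
    have hαF : q (α F1) ∈ φ.range := by
      have e : q (α F1) = nn * q F1 * nn⁻¹ := by rw [hnc, mul_inv_cancel_right]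
      rw [e]
      exact mul_mem (mul_mem hnr hF1) (inv_mem hnr)
    have hG1 : q G1 ∈ φ.range := by
      rcases hst with ⟨h, -⟩ | ⟨h, -⟩
      · rwa [h] at hαF
      · have e : q G1 = q (α F1) * (q (F1 * α F1) * q (F1 * α F1)) := by
          rw [← map_mul, ← map_mul]
          refine hq ?_
          rw [h]; decide +kernel
        rw [e, map_mul q]
        exact mul_mem hαF (mul_mem (mul_mem hF1 hαF) (mul_mem hF1 hαF))
    intro x
    have htop := eq_top_of_gens (φ.range.comap q) hF1 hG1 hWm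
    exact (htop ▸ mem_top x : x ∈ φ.range.comap q)
  have hsurj : Function.Surjective φ := by
    intro y
    obtain ⟨⟨m, hm⟩, rfl⟩ := QuotientGroup.mk'_surjective _ y
    by_cases hmR : m ∈ E.R
    · obtain ⟨x, rfl⟩ := hmR
      exact hsurjq x
    · obtain ⟨x, hx⟩ := mul_mem_of_not_mem E hm hmR hn hnR
      have e : π ⟨m, hm⟩ = q x * nn⁻¹ := by
        rw [eq_mul_inv_iff_mul_eq]
        show π ⟨m, hm⟩ * π ⟨n, hn⟩ = π (j x)
        rw [← map_mul]
        exact congrArg π (Subtype.ext hx.symm)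
      have hnr : nn ∈ φ.range := by
        have hRr : R ∈ φ.range := ⟨_, hφR⟩
        have e : nn = (q (F1 * F2))⁻¹ * R := by rw [hRdef, inv_mul_cancel_left]
        rw [e]
        exact mul_mem (inv_mem (hsurjq _)) hRr
      exact (e ▸ mul_mem (hsurjq x) (inv_mem hnr) : π ⟨m, hm⟩ ∈ φ.range)
  have hcard : Nat.card W8 = Nat.card (N ⧸ (center S).subgroupOf N) := by
    have h1 : Nat.card (E.R.subgroupOf N) * (E.R.subgroupOf N).index = Nat.card N :=
      card_mul_index _
    have h2 : Nat.card ((center S).subgroupOf N) * ((center S).subgroupOf N).index = Nat.card N :=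
      card_mul_index _
    have hi : (E.R.subgroupOf N).index = 2 := relIndex_two E hR
    have hRc : Nat.card (E.R.subgroupOf N) = 128 := by
      rw [Nat.card_congr (subgroupOfEquivOfLe le_normalizer).toEquiv]
      exact (Nat.card_congr (MonoidHom.ofInjective E.inj).toEquiv).symm.trans W8.card
    have hZ : Nat.card ((center S).subgroupOf N) = 2 := by
      rw [Nat.card_congr (subgroupOfEquivOfLe (show center S ≤ N from
        fun x hx => Subgroup.centralizer_le_normalizer _ (Subgroup.center_le_centralizer _ hx))).toEquiv]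
      have hset : (center S : Set S) = {1, E.ι Zd} := Set.ext fun x => by
        simp [center_eq E]
      rw [← SetLike.coe_sort_coe, Nat.card_coe_set_eq, hset, Set.ncard_pair]
      intro h
      have := E.inj ((map_one E.ι).trans h)
      revert this
      decide +kernel
    rw [hi, hRc] at h1
    rw [hZ, ← h1, index_eq_card] at h2
    rw [W8.card]; omega
  exact ⟨MulEquiv.ofBijective φ ((Nat.bijective_iff_surjective_and_card φ).2 ⟨hsurj, hcard⟩)⟩

end CfsgLib.DWrTwo
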